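import Groth.Agent.Lib.CI2.GoodFact
import Groth.Agent.Lib.CI2.LocLift
import Groth.Agent.Lib.Goren.SopHull27
import Groth.Agent.Lib.EmbDef.Regular
import Groth.Agent.Lib.HilbObs3.Chart
import Groth.Agent.S0342
import Mathlib.RingTheory.HopkinsLevitzki

/-! Factorisation of local maps of Artinian rings through a flat map with Gorenstein fibre. -/

set_option autoImplicit false
set_option linter.style.haveILetI false

universe u

open IsLocalRing RingTheory.Sequence

namespace Groth.Agent.ArtFact28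

theorem isNilpotent_maximalIdeal (R : Type u) [CommRing R] [IsArtinianRing R] [IsLocalRing R] :
    IsNilpotent (maximalIdeal R) := by
  obtain ⟨N, hN⟩ := IsArtinianRing.isNilpotent_jacobson_bot (R := R)
  exact ⟨N, by rw [← jacobson_eq_maximalIdeal ⊥ bot_ne_top]; exact hN⟩

theorem isArtinianRing_of_le_radical (R : Type u) [CommRing R] [IsNoetherianRing R] [IsLocalRing R]
    (h : maximalIdeal R ≤ (⊥ : Ideal R).radical) : IsArtinianRing R := by
  rw [isArtinianRing_iff_isNilpotent_maximalIdeal]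
  obtain ⟨N, hN⟩ := Ideal.exists_pow_le_of_le_radical_of_fg h (IsNoetherian.noetherian _)
  exact ⟨N, le_bot_iff.1 hN⟩

/-- Powers of a regular system of parameters form a regular sequence, with Artinian quotient. -/
theorem weaklyRegular_pow {F : Type u} [CommRing F] [IsRegularLocalRing F] (l : List F)
    (hl : Ideal.ofList l = maximalIdeal F) (hlen : l.length = (maximalIdeal F).spanFinrank) {N : ℕ} (hN : N ≠ 0) :
    IsWeaklyRegular F (l.map (· ^ N)) := by
  haveI : LocCoh.IsCohenMacaulayLocalRing F := DepthLib.isCohenMacaulayLocalRing_of_isRegularLocalRing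
  have hmem : ∀ x ∈ l.map (· ^ N), x ∈ maximalIdeal F := fun x hx => by
    obtain ⟨y, hy, rfl⟩ := List.mem_map.1 hx
    exact Ideal.pow_mem_of_mem _ (hl.le (Ideal.subset_span hy)) N (Nat.pos_of_ne_zero hN)
  refine EmbDef.isWeaklyRegular_of_dim _ hmem ?_
  let I := Ideal.ofList (l.map (· ^ N))
  haveI : Nontrivial (F ⧸ I) :=
    Ideal.Quotient.nontrivial_iff.2 (ne_top_of_le_ne_top (maximalIdeal.isMaximal F).ne_top (Ideal.span_le.2 hmem))
  haveI : IsLocalRing (F ⧸ I) := IsLocalRing.of_surjective' _ Ideal.Quotient.mk_surjective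
  haveI : IsArtinianRing (F ⧸ I) := isArtinianRing_of_le_radical _ (by
    rw [← map_maximalIdeal_of_surjective (Ideal.Quotient.mk I) Ideal.Quotient.mk_surjective, ← hl, Ideal.map_ofList]
    refine Ideal.span_le.2 fun x hx => ?_
    obtain ⟨y, hy, rfl⟩ := List.mem_map.1 hx
    exact ⟨N, by
      rw [← map_pow, Ideal.mem_bot, Ideal.Quotient.eq_zero_iff_mem]
      exact Ideal.subset_span (List.mem_map.2 ⟨y, hy, rfl⟩)⟩)
  haveI : Ring.KrullDimLE 0 (F ⧸ I) := inferInstance
  rw [ringKrullDimZero_iff_ringKrullDim_eq_zero.1 (inferInstance : Ring.KrullDimLE 0 (F ⧸ I)), zero_add, List.length_map, hlen]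
  exact IsRegularLocalRing.spanFinrank_maximalIdeal

/-- Cutting a flat algebra with regular fibre down to an Artinian one. -/
theorem exists_cut (R S T : Type u) [CommRing R] [CommRing S] [CommRing T] [IsArtinianRing R] [IsLocalRing R]
    [IsArtinianRing S] [IsLocalRing S] [IsNoetherianRing T] [IsLocalRing T] [Algebra R S] [Algebra R T]
    [IsLocalHom (algebraMap R S)] [IsLocalHom (algebraMap R T)] [Module.Flat R T]
    (σT : T →ₐ[R] S) (hσT : Function.Surjective σT)
    (hF : IsRegularLocalRing (T ⧸ (maximalIdeal R).map (algebraMap R T))) :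
    ∃ (R' : Type u) (_ : CommRing R') (_ : Algebra R R'), IsArtinianRing R' ∧ IsLocalRing R' ∧ Module.Flat R R' ∧
      IsLocalHom (algebraMap R R') ∧
      LocCoh.IsGorensteinLocalRing (R' ⧸ (maximalIdeal R).map (algebraMap R R')) ∧
      ∃ g : R' →ₐ[R] S, Function.Surjective g := by
  classical
  let mT := (maximalIdeal R).map (algebraMap R T)
  haveI : IsRegularLocalRing (T ⧸ mT) := hF
  haveI : IsNoetherianRing (T ⧸ mT) := inferInstance
  obtain ⟨ys, hys, hlen⟩ := CI2.exists_generators (maximalIdeal (T ⧸ mT))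
  obtain ⟨xs, rfl⟩ : ∃ xs : List T, xs.map (Ideal.Quotient.mk mT) = ys :=
    ⟨ys.map fun y => (Ideal.Quotient.mk_surjective y).choose, by
      rw [List.map_map]
      exact (List.map_congr_left fun y _ => (Ideal.Quotient.mk_surjective y).choose_spec).trans (List.map_id _)⟩
  haveI : IsLocalHom (Ideal.Quotient.mk mT) := IsLocalHom.of_surjective _ Ideal.Quotient.mk_surjective
  have hxm : ∀ x ∈ xs, x ∈ maximalIdeal T := fun x hx => by
    have h1 : Ideal.Quotient.mk mT x ∈ maximalIdeal (T ⧸ mT) := hys.le (Ideal.subset_span (List.mem_map.2 ⟨x, hx, rfl⟩))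
    rw [mem_maximalIdeal, mem_nonunits_iff] at h1 ⊢
    exact fun hu => h1 (hu.map _)
  obtain ⟨N₀, hN₀⟩ := isNilpotent_maximalIdeal S
  let N := N₀ + 1
  let L := xs.map (· ^ N)
  have hLm : ∀ x ∈ L, x ∈ maximalIdeal T := fun x hx => by
    obtain ⟨y, hy, rfl⟩ := List.mem_map.1 hx
    exact Ideal.pow_mem_of_mem _ (hxm y hy) N N₀.succ_pos
  have hfib : IsWeaklyRegular (T ⧸ mT) (L.map (Ideal.Quotient.mk mT)) := by
    have := weaklyRegular_pow (xs.map (Ideal.Quotient.mk mT)) hys hlen (N := N) N₀.succ_ne_zero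
    rw [List.map_map] at this
    rw [show L.map (Ideal.Quotient.mk mT) = xs.map ((· ^ N) ∘ Ideal.Quotient.mk mT) by
      simp only [L, List.map_map]
      exact List.map_congr_left fun x _ => map_pow _ x N]
    exact this
  have hflat : Module.Flat R (T ⧸ Ideal.ofList L) := by
    have := (CI2.weaklyRegular_and_flat_of_fibre (A := R) (C := T) hLm hfib).2 L.length le_rfl
    rwa [List.take_length] at this
  have hLS : Ideal.ofList L ≤ RingHom.ker σT.toRingHom := Ideal.span_le.2 fun x hx => by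
    obtain ⟨y, hy, rfl⟩ := List.mem_map.1 hx
    haveI : IsLocalHom σT.toRingHom := IsLocalHom.of_surjective _ hσT
    have h1 : σT y ∈ maximalIdeal S := map_nonunit σT.toRingHom y (hxm y hy)
    have h2 : σT y ^ N ∈ maximalIdeal S ^ N := Ideal.pow_mem_pow h1 N
    rw [pow_succ, hN₀, Ideal.zero_eq_bot, Ideal.bot_mul, Ideal.mem_bot] at h2
    show σT (y ^ N) = 0
    rw [map_pow]; exact h2
  let g : (T ⧸ Ideal.ofList L) →ₐ[R] S := Ideal.Quotient.liftₐ _ σT fun a ha => hLS ha
  have hg : Function.Surjective g := fun s => by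
    obtain ⟨x, rfl⟩ := hσT s
    exact ⟨Ideal.Quotient.mk _ x, rfl⟩
  haveI : Nontrivial (T ⧸ Ideal.ofList L) := g.toRingHom.domain_nontrivial
  haveI : IsLocalRing (T ⧸ Ideal.ofList L) := IsLocalRing.of_surjective' _ Ideal.Quotient.mk_surjective
  haveI : IsLocalHom (algebraMap R (T ⧸ Ideal.ofList L)) := ⟨fun a ha => by
    have := ha.map g
    rw [AlgHom.commutes] at this
    exact (isUnit_map_iff (algebraMap R S) a).1 this⟩
  have hart : IsArtinianRing (T ⧸ Ideal.ofList L) := by
    refine @isArtinianRing_of_le_radical (T ⧸ Ideal.ofList L) (Ideal.Quotient.commRing _) (inferInstance) (inferInstance) ?_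
    rw [← map_maximalIdeal_of_surjective (Ideal.Quotient.mk (Ideal.ofList L)) Ideal.Quotient.mk_surjective]
    refine Ideal.map_le_iff_le_comap.2 ?_
    have hle : maximalIdeal T ≤ Ideal.ofList xs ⊔ mT := fun t ht => by
      have h1 : Ideal.Quotient.mk mT t ∈ maximalIdeal (T ⧸ mT) := map_nonunit (Ideal.Quotient.mk mT) t ht
      rw [← hys, ← Ideal.map_ofList, Ideal.mem_quotient_iff_mem_sup] at h1
      exact h1
    refine hle.trans (sup_le (Ideal.span_le.2 fun x hx => ⟨N, ?_⟩) ?_)
    · rw [← map_pow, Ideal.mem_bot, Ideal.Quotient.eq_zero_iff_mem]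
      exact Ideal.subset_span (List.mem_map.2 ⟨x, hx, rfl⟩)
    · obtain ⟨M, hM⟩ := isNilpotent_maximalIdeal R
      refine fun x hx => ⟨M, ?_⟩
      have : x ^ M ∈ mT ^ M := Ideal.pow_mem_pow hx M
      rw [← Ideal.map_pow, hM, Ideal.zero_eq_bot, Ideal.map_bot, Ideal.mem_bot] at this
      rw [← map_pow, this, map_zero]
      exact zero_mem _
  refine ⟨T ⧸ Ideal.ofList L, inferInstance, inferInstance, hart, inferInstance, hflat, inferInstance, ?_, g, hg⟩
  haveI : LocCoh.IsGorensteinLocalRing (T ⧸ mT) := Groth.Agent.S0342.result (T ⧸ mT)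
  have hG : LocCoh.IsGorensteinLocalRing ((T ⧸ mT) ⧸ Ideal.ofList (L.map (Ideal.Quotient.mk mT))) :=
    GorenLib.gorenstein_quotient_ofList _ (T ⧸ mT) _ rfl hfib fun y hy => by
      obtain ⟨x, hx, rfl⟩ := List.mem_map.1 hy
      exact map_nonunit _ x (hLm x hx)
  rw [IsScalarTower.algebraMap_eq R T (T ⧸ Ideal.ofList L), ← Ideal.map_map]
  refine Goren15.isGorensteinLocalRing_of_ringEquiv (h := hG) ?_
  refine (Ideal.quotEquivOfEq (Ideal.map_ofList _ _).symm).trans ?_
  exact DoubleQuot.quotQuotEquivComm mT (Ideal.ofList L)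


theorem exists_factorization (R S : Type u) [CommRing R] [CommRing S] [IsArtinianRing R] [IsLocalRing R]
    [IsArtinianRing S] [IsLocalRing S] [Algebra R S] [IsLocalHom (algebraMap R S)] :
    ∃ (R' : Type u) (_ : CommRing R') (_ : Algebra R R'), IsArtinianRing R' ∧ IsLocalRing R' ∧ Module.Flat R R' ∧
      IsLocalHom (algebraMap R R') ∧
      LocCoh.IsGorensteinLocalRing (R' ⧸ (maximalIdeal R).map (algebraMap R R')) ∧
      ∃ g : R' →ₐ[R] S, Function.Surjective g := by
  classical
  haveI : IsAdicComplete (maximalIdeal R) R := by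
    obtain ⟨N, hN⟩ := isNilpotent_maximalIdeal R
    exact EmbDef.isAdicComplete_of_isNilpotent ⟨N, hN⟩
  haveI : IsAdicComplete (maximalIdeal S) S := by
    obtain ⟨N, hN⟩ := isNilpotent_maximalIdeal S
    exact EmbDef.isAdicComplete_of_isNilpotent ⟨N, hN⟩
  obtain ⟨Λ, Λ', iΛ, iΛ', iΛl, iΛl', n, m, ρ, σ, τ, -, hΛ, hΛ', hρ, hσ, hcomm, hτl, hτf, hreg⟩ :=
    CI2.exists_cohen_factorization R S (algebraMap R S)
  let P := MvPowerSeries (Fin n) Λ
  let P' := MvPowerSeries (Fin m) Λ'
  haveI : IsRegularLocalRing Λ := (CI2.exists_nat_gens hΛ).choose_spec.2.1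
  haveI : IsRegularLocalRing Λ' := (CI2.exists_nat_gens hΛ').choose_spec.2.1
  haveI : IsRegularLocalRing P := Cohen.isRegularLocalRing_mvPowerSeries Λ n
  haveI : IsRegularLocalRing P' := Cohen.isRegularLocalRing_mvPowerSeries Λ' m
  let J := RingHom.ker ρ
  let e : (P ⧸ J) ≃+* R := RingHom.quotientKerEquivOfSurjective hρ
  let T := P' ⧸ J.map τ
  let ι : R →+* T := (Ideal.quotientMap (J.map τ) τ Ideal.le_comap_map).comp e.symm.toRingHom
  letI : Algebra R T := ι.toAlgebra
  have hιρ : ∀ p, ι (ρ p) = Ideal.Quotient.mk (J.map τ) (τ p) := fun p => by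
    show Ideal.quotientMap _ τ Ideal.le_comap_map (e.symm (ρ p)) = _
    rw [show e.symm (ρ p) = Ideal.Quotient.mk J p from e.symm_apply_eq.2 rfl]
    rfl
  haveI hTflat : Module.Flat R T :=
    ((RingHom.Flat.of_bijective e.symm.bijective).comp (HilbObs3.flat_quotientMap J hτf) : ι.Flat)
  have hJσ : ∀ x ∈ J.map τ, σ x = 0 := fun x hx => by
    have : J.map τ ≤ RingHom.ker σ := Ideal.map_le_iff_le_comap.2 fun p hp => by
      rw [Ideal.mem_comap, RingHom.mem_ker, ← RingHom.comp_apply, hcomm, RingHom.comp_apply,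
        RingHom.mem_ker.1 hp, map_zero]
    exact this hx
  let σT : T →ₐ[R] S :=
    { Ideal.Quotient.lift (J.map τ) σ hJσ with
      commutes' := fun r => by
        obtain ⟨p, rfl⟩ := hρ r
        show Ideal.Quotient.lift (J.map τ) σ hJσ (ι (ρ p)) = _
        rw [hιρ, Ideal.Quotient.lift_mk]
        exact RingHom.congr_fun hcomm p }
  have hσT : Function.Surjective σT := fun s => by
    obtain ⟨x, rfl⟩ := hσ s
    exact ⟨Ideal.Quotient.mk _ x, rfl⟩
  haveI : Nontrivial T := σT.toRingHom.domain_nontrivial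
  haveI : IsLocalRing T := IsLocalRing.of_surjective' _ (Ideal.Quotient.mk_surjective (I := J.map τ))
  haveI : IsLocalHom (algebraMap R T) := ⟨fun a ha => by
    have := ha.map σT
    rw [AlgHom.commutes] at this
    exact (isUnit_map_iff (algebraMap R S) a).1 this⟩
  -- the closed fibre
  let mT := (maximalIdeal R).map (algebraMap R T)
  have hmT : mT = ((maximalIdeal P).map τ).map (Ideal.Quotient.mk (J.map τ)) := by
    show (maximalIdeal R).map ι = _
    rw [← map_maximalIdeal_of_surjective ρ hρ, Ideal.map_map, Ideal.map_map]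
    exact congrArg (fun f => Ideal.map f (maximalIdeal P)) (RingHom.ext hιρ)
  have hJle : J.map τ ≤ (maximalIdeal P).map τ :=
    Ideal.map_mono (le_maximalIdeal (RingHom.ker_ne_top ρ))
  haveI hF : IsRegularLocalRing (T ⧸ mT) :=
    haveI := hreg
    IsRegularLocalRing.of_ringEquiv
      ((Ideal.quotEquivOfEq hmT).trans (DoubleQuot.quotQuotEquivQuotOfLE hJle)).symm
  exact exists_cut R S T σT hσT hF

end Groth.Agent.ArtFact28
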